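import Mathlib

/-!
Element orders in a semidirect product of an elementary abelian group by a finite group.
-/

set_option autoImplicit false

namespace Cfsg.Agent.Fg24.IsoPGL

variable {P W : Type} [Group P] [AddCommGroup W]

/-- The multiplicative form of an action by additive automorphisms. -/
def mulAct (ρ : P → W ≃+ W) (h1 : ∀ v, ρ 1 v = v) (hm : ∀ g h v, ρ (g * h) v = ρ g (ρ h v)) :
    P →* MulAut (Multiplicative W) where
  toFun g := AddEquiv.toMultiplicative (ρ g)
  map_one' := MulEquiv.ext fun v => congrArg Multiplicative.ofAdd (h1 v.toAdd)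
  map_mul' g h := MulEquiv.ext fun v => congrArg Multiplicative.ofAdd (hm g h v.toAdd)

/-- An elementary abelian group by a group: the element orders and the size. -/
theorem exists_semidirect [Finite P] [Finite W] (r : ℕ) (hr : r.Prime) (hW : ∀ v : W, r • v = 0)
    (ρ : P → W ≃+ W) (h1 : ∀ v, ρ 1 v = v) (hm : ∀ g h v, ρ (g * h) v = ρ g (ρ h v)) (S : Set ℕ)
    (ha : ∀ g : P, orderOf g ∈ S)
    (hb : ∀ (g : P) (v : W), ∑ i ∈ Finset.range (orderOf g), ρ (g ^ i) v ≠ 0 → orderOf g * r ∈ S)
    (hc : ∀ s ∈ S, (∃ g : P, orderOf g = s) ∨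
      ∃ (g : P) (v : W), orderOf g * r = s ∧ ∑ i ∈ Finset.range (orderOf g), ρ (g ^ i) v ≠ 0) :
    ∃ (H : Type) (_ : Group H) (_ : Fintype H), Nat.card W ≤ Fintype.card H ∧
      Set.range (orderOf : H → ℕ) = S := by
  classical
  let φ := mulAct ρ h1 hm
  let H := Multiplicative W ⋊[φ] P
  have hpow : ∀ (x : H) (n : ℕ),
      (x ^ n).right = x.right ^ n ∧
      (x ^ n).left.toAdd = ∑ i ∈ Finset.range n, ρ (x.right ^ i) x.left.toAdd := by
    intro x n
    induction n with
    | zero => simp
    | succ n ih =>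
      rw [pow_succ, SemidirectProduct.mul_right, SemidirectProduct.mul_left, ih.1, toAdd_mul, ih.2,
        Finset.sum_range_succ, ← pow_succ]
      exact ⟨rfl, rfl⟩
  have hord : ∀ x : H, orderOf x = if ∑ i ∈ Finset.range (orderOf x.right), ρ (x.right ^ i) x.left.toAdd = 0
      then orderOf x.right else orderOf x.right * r := by
    intro x
    set n := orderOf x.right with hn
    set y := x ^ n with hy
    have hnx : n ∣ orderOf x := orderOf_map_dvd (SemidirectProduct.rightHom : H →* P) x
    have hyr : y.right = 1 := by rw [hy, (hpow x n).1, hn, pow_orderOf_eq_one]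
    have hy' : y.left.toAdd = ∑ i ∈ Finset.range n, ρ (x.right ^ i) x.left.toAdd := (hpow x n).2
    have hyr' : y ^ r = 1 := by
      refine SemidirectProduct.ext ?_ (by rw [(hpow y r).1, hyr, one_pow]; rfl)
      refine Multiplicative.toAdd.injective ?_
      rw [(hpow y r).2]
      simp only [hyr, one_pow, h1, Finset.sum_const, Finset.card_range, hW]
      rfl
    split_ifs with h
    · refine Nat.dvd_antisymm (orderOf_dvd_of_pow_eq_one ?_) hnx
      refine SemidirectProduct.ext (Multiplicative.toAdd.injective ?_) (hyr.trans rfl)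
      show y.left.toAdd = _
      rw [hy', h]
      rfl
    · have hne : y ≠ 1 := fun e => h (by rw [← hy', e]; rfl)
      haveI := Fact.mk hr
      have hoy : orderOf y = r := orderOf_eq_prime hyr' hne
      obtain ⟨k, hk⟩ := hnx
      have hk0 : n ≠ 0 := by
        intro e
        exact h (by rw [e, Finset.sum_range_zero])
      have : orderOf y = k := by
        rw [hy, orderOf_pow' x hk0, hk, Nat.gcd_eq_right (dvd_mul_right _ _),
          Nat.mul_div_cancel_left _ (Nat.pos_of_ne_zero hk0)]
      rw [hk, ← this, hoy]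
  have hfin : Finite H := Finite.of_equiv _ SemidirectProduct.equivProd.symm
  letI : Fintype H := Fintype.ofFinite H
  refine ⟨H, inferInstance, inferInstance, ?_, Set.Subset.antisymm ?_ ?_⟩
  · rw [← Nat.card_eq_fintype_card, Nat.card_congr SemidirectProduct.equivProd, Nat.card_prod,
      Nat.card_congr (Multiplicative.toAdd (α := W))]
    exact Nat.le_mul_of_pos_right _ Nat.card_pos
  · rintro _ ⟨x, rfl⟩
    rw [hord]
    split_ifs with h
    · exact ha _
    · exact hb _ _ h
  · intro s hs
    rcases hc s hs with ⟨g, rfl⟩ | ⟨g, v, rfl, hv⟩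
    · refine ⟨SemidirectProduct.inr g, ?_⟩
      exact orderOf_injective _ SemidirectProduct.inr_injective g
    · refine ⟨⟨Multiplicative.ofAdd v, g⟩, ?_⟩
      rw [hord]
      exact if_neg hv

variable {X : Type} [Finite X]

/-- Copies of an invariant space of functions: sums over the powers of an element act on each copy. -/
theorem exists_of_functions [Finite P] (r : ℕ) (hr : r.Prime) (σ : P → X → X)
    (hσ1 : ∀ x, σ 1 x = x) (hσm : ∀ g h x, σ (g * h) x = σ h (σ g x))
    (V : AddSubgroup (X → ZMod r)) (hV : ∀ g, ∀ f ∈ V, (fun x => f (σ g x)) ∈ V) (S : Set ℕ)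
    (hne : ∃ f ∈ V, f ≠ 0)
    (ha : ∀ g : P, orderOf g ∈ S)
    (hb : ∀ g : P, ∀ f ∈ V, ∀ x, ∑ i ∈ Finset.range (orderOf g), f (σ (g ^ i) x) ≠ 0 → orderOf g * r ∈ S)
    (hc : ∀ s ∈ S, (∃ g : P, orderOf g = s) ∨
      ∃ g : P, ∃ f ∈ V, ∃ x, orderOf g * r = s ∧ ∑ i ∈ Finset.range (orderOf g), f (σ (g ^ i) x) ≠ 0)
    (N : ℕ) :
    ∃ (H : Type) (_ : Group H) (_ : Fintype H), N < Fintype.card H ∧
      Set.range (orderOf : H → ℕ) = S := by
  classical
  haveI := Fact.mk hr
  let W : AddSubgroup (Fin (N + 1) → X → ZMod r) :=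
    { carrier := {F | ∀ j, F j ∈ V}
      zero_mem' := fun j => V.zero_mem
      add_mem' := fun ha hb j => V.add_mem (ha j) (hb j)
      neg_mem' := fun ha j => V.neg_mem (ha j) }
  let act : P → W → W := fun g F => ⟨fun j x => F.1 j (σ g x), fun j => hV g _ (F.2 j)⟩
  have hact : ∀ g h F, act (g * h) F = act g (act h F) := fun g h F =>
    Subtype.ext (funext fun j => funext fun x => congrArg (F.1 j) (hσm g h x))
  have hact1 : ∀ F, act 1 F = F := fun F =>
    Subtype.ext (funext fun j => funext fun x => congrArg (F.1 j) (hσ1 x))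
  let ρ : P → W ≃+ W := fun g =>
    { toFun := act g
      invFun := act g⁻¹
      left_inv := fun F => by rw [← hact, inv_mul_cancel, hact1]
      right_inv := fun F => by rw [← hact, mul_inv_cancel, hact1]
      map_add' := fun _ _ => rfl }
  have hsum : ∀ (g : P) (n : ℕ) (F : W) j x,
      (∑ i ∈ Finset.range n, ρ (g ^ i) F).1 j x = ∑ i ∈ Finset.range n, F.1 j (σ (g ^ i) x) := by
    intro g n F j x
    rw [AddSubgroup.val_finset_sum, Finset.sum_apply, Finset.sum_apply]
    rfl
  have hcard : N + 1 ≤ Nat.card W := by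
    obtain ⟨f, hf, hf0⟩ := hne
    let ins : Fin (N + 1) → W := fun j => ⟨fun l => if l = j then f else 0, fun l => by
      by_cases h : l = j <;> simp [h, hf, V.zero_mem]⟩
    have hinj : Function.Injective ins := fun j k h => by
      by_contra hjk
      have h' := congrFun (congrArg Subtype.val h) j
      simp [ins, hjk] at h'
      exact hf0 h'
    simpa using Nat.card_le_card_of_injective ins hinj
  obtain ⟨H, i1, i2, hle, heq⟩ := exists_semidirect r hr (W := W)
    (fun F => Subtype.ext (funext fun j => funext fun x => by simp [nsmul_eq_mul]))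
    ρ hact1 hact S ha
    (fun g F hF => by
      obtain ⟨j, hj⟩ := Function.ne_iff.1 (fun e => hF (Subtype.ext e))
      obtain ⟨x, hx⟩ := Function.ne_iff.1 hj
      exact hb g _ (F.2 j) x (by rw [← hsum]; exact hx))
    (fun s hs => by
      rcases hc s hs with h | ⟨g, f, hf, x, hs', hne⟩
      · exact Or.inl h
      · refine Or.inr ⟨g, ⟨fun _ => f, fun _ => hf⟩, hs', fun e => hne ?_⟩
        rw [← hsum g _ ⟨fun _ => f, fun _ => hf⟩ 0 x, e]
        rfl)
  exact ⟨H, i1, i2, lt_of_lt_of_le (Nat.lt_succ_self N) (hcard.trans hle), heq⟩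

end Cfsg.Agent.Fg24.IsoPGL
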