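import Mathlib
import Cfsg.Agent.SL2Class.PSL
import Cfsg.Agent.Fg24.IsoPGL.Semidirect

/-!
A space of functions on PSL(2, p) over the field of two elements on which unipotent elements fix nothing and the
tori have non-zero norms.
-/

set_option autoImplicit false

namespace Cfsg.Agent.Fg24.IsoPGL

open Matrix Cfsg.Agent.SL2Class

section

variable {F : Type*} [Field F]

local notation "SG" => Matrix.SpecialLinearGroup (Fin 2) F
local notation "PG" => Matrix.ProjectiveSpecialLinearGroup (Fin 2) F
local notation "M2" => Matrix (Fin 2) (Fin 2) F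

theorem tr_eq_trace (g : SG) : tr g = Matrix.trace (g : M2) := by
  simp [tr, Matrix.trace, Matrix.diag, Fin.sum_univ_two]

/-- A form-orthogonal element: the trace of its product with the powers of `x` is proportional to theirs. -/
theorem exists_tangent [Fintype F] {x : SG} (hx : tr x * tr x ≠ 4) (h2 : (2 : F) ≠ 0) (t : F) :
    ∃ z : SG, ∀ w : SG, w ∈ Subgroup.centralizer ({x} : Set SG) → tr (w * z) = t / 2 * tr w := by
  have hns := nonScalar_of_sq_ne hx
  obtain ⟨P, hP, hxP⟩ := exists_to_comp hns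
  set s := tr x with hs
  obtain ⟨a, b, hab⟩ := exists_N2_eq (t := -s) (Or.inl (by simpa using hx)) (t / 2 * (t / 2) - 1)
  let y0 : M2 := !![a, b; b - s * a, -a]
  let y : M2 := P.det⁻¹ • (P * y0 * P.adjugate)
  have hy0 : y0.trace = 0 := by simp [y0, Matrix.trace_fin_two]
  have hy : y.trace = 0 := by
    rw [show y.trace = P.det⁻¹ * (P * y0 * P.adjugate).trace by simp [y, Matrix.trace_smul],
      Matrix.trace_mul_comm, ← Matrix.mul_assoc, Matrix.adjugate_mul, Matrix.smul_mul, Matrix.one_mul,
      Matrix.trace_smul, hy0]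
    simp
  have hxy : ((x : M2) * y).trace = 0 := by
    rw [show (x : M2) * y = P.det⁻¹ • ((x : M2) * P * y0 * P.adjugate) by simp [y, Matrix.mul_assoc],
      hxP, Matrix.trace_smul, Matrix.trace_mul_comm, ← Matrix.mul_assoc, ← Matrix.mul_assoc,
      Matrix.adjugate_mul, Matrix.smul_mul, Matrix.smul_mul, Matrix.one_mul, Matrix.trace_smul]
    simp [y0, coe_comp, Matrix.trace_fin_two]
    ring_nf; simp
  have hdy : y.det = y0.det := by
    rw [show y.det = P.det⁻¹ ^ 2 * (P * y0 * P.adjugate).det by simp [y, Matrix.det_smul],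
      Matrix.det_mul, Matrix.det_mul, Matrix.det_adjugate]
    simp
    field_simp
  have hdz : ((t / 2) • (1 : M2) + y).det = 1 := by
    rw [Matrix.trace_fin_two] at hy
    have hd : y.det = y 0 0 * y 1 1 - y 0 1 * y 1 0 := Matrix.det_fin_two y
    have he : y0.det = 1 - t / 2 * (t / 2) := by
      simp only [y0, Matrix.det_fin_two_of]
      simp only [N2] at hab
      linear_combination -hab
    rw [hd, he] at hdy
    rw [Matrix.det_fin_two]
    simp
    linear_combination (t / 2) * hy + hdy
  refine ⟨⟨_, hdz⟩, fun w hw => ?_⟩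
  obtain ⟨c, d, hcd⟩ := exists_lin hns (M := (w : M2))
    (congrArg (fun g : SG => (g : M2)) (Subgroup.mem_centralizer_singleton_iff.1 hw))
  rw [tr_eq_trace, tr_eq_trace]
  show ((w : M2) * ((t / 2) • (1 : M2) + y)).trace = _
  rw [Matrix.mul_add, Matrix.mul_smul, Matrix.mul_one, Matrix.trace_add, Matrix.trace_smul, smul_eq_mul]
  rw [show ((w : M2) * y).trace = 0 by
    rw [hcd, lin, Matrix.add_mul, Matrix.smul_mul, Matrix.smul_mul, Matrix.one_mul, Matrix.trace_add,
      Matrix.trace_smul c y, Matrix.trace_smul d ((x : M2) * y), hy, hxy]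
    simp, add_zero]

/-- A unipotent with a trace not moving along the coset forces a root. -/
theorem root_of_const {u h : SG} (hu : NonScalar u) (htu : tr u = 2) (hc : tr (u * h) = tr h) :
    ¬ NoRoot (tr h) := by
  intro hno
  set a := (u : M2) 0 0 - 1 with ha
  set b := (u : M2) 0 1 with hb
  set c := (u : M2) 1 0 with hcdef
  have h11 : (u : M2) 1 1 = 1 - a := by
    have : (u : M2) 0 0 + (u : M2) 1 1 = 2 := htu
    linear_combination this
  have hdet : a * a + b * c = 0 := by
    have := SL2Class.det_eq u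
    rw [h11] at this
    linear_combination -this
  have hE : (h : M2) 0 0 * a + (h : M2) 0 1 * c + (h : M2) 1 0 * b - (h : M2) 1 1 * a = 0 := by
    simp only [tr, Matrix.SpecialLinearGroup.coe_mul, Matrix.mul_apply, Fin.sum_univ_two, h11] at hc
    linear_combination hc
  have hd := SL2Class.det_eq h
  by_cases hc0 : c = 0
  · have ha0 : a = 0 := mul_self_eq_zero.1 (by rw [hc0, mul_zero, add_zero] at hdet; exact hdet)
    have hb0 : b ≠ 0 := fun e => hu ⟨e, hc0, by rw [h11, ha0]; linear_combination ha.symm.trans ha0⟩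
    rw [hc0, ha0] at hE
    simp [hb0] at hE
    refine hno ((h : M2) 0 0) ?_
    rw [hE] at hd
    simp only [tr]
    linear_combination -hd
  · refine hno (((h : M2) 1 0 * a + (h : M2) 1 1 * c) / c) ?_
    set r := ((h : M2) 1 0 * a + (h : M2) 1 1 * c) / c with hr
    have e1 : r * c = (h : M2) 1 0 * a + (h : M2) 1 1 * c := by rw [hr, div_mul_cancel₀ _ hc0]
    have e2 : ((h : M2) 0 0 - r) * a + (h : M2) 0 1 * c = 0 := by
      refine mul_left_cancel₀ hc0 ?_
      linear_combination (-a) * e1 + c * hE - (h : M2) 1 0 * hdet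
    have e4 : (r * r - tr h * r + 1) * c = 0 := by
      simp only [tr]
      linear_combination (r - (h : M2) 0 0) * e1 - (h : M2) 1 0 * e2 - c * hd
    exact (mul_eq_zero.1 e4).resolve_right hc0

/-- Unipotent elements of PSL(2) lift to unipotent elements. -/
theorem exists_unipotent_lift [Fintype F] (p : ℕ) [hp : Fact p.Prime] [CharP F p] (h2 : (2 : F) ≠ 0) {u : PG}
    (hu : orderOf u = p) : ∃ U : SG, proj U = u ∧ NonScalar U ∧ tr U = 2 := by
  obtain ⟨g, rfl⟩ := proj_surjective u
  have hns : NonScalar g := by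
    by_contra h
    rw [proj_eq_one.2 (mem_center_iff.2 h), orderOf_one] at hu
    exact hp.out.ne_one hu.symm
  have h4 : tr g * tr g = 4 := by
    by_contra ht
    have hmem := self_mem_cent g
    have hd : p ∣ Nat.card (Subgroup.centralizer ({g} : Set SG)) := by
      rw [← hu]
      refine (orderOf_map_dvd proj g).trans ?_
      rw [← Subgroup.orderOf_mk g hmem]
      exact orderOf_dvd_natCard _
    obtain ⟨n, -, hn⟩ := FiniteField.card F p
    have hq : p ∣ Fintype.card F := hn ▸ dvd_pow_self p n.ne_zero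
    have := hp.out.one_lt
    have := Fintype.one_lt_card (α := F)
    rcases card_cent_semisimple ht with e | e <;> rw [e] at hd
    · have := Nat.dvd_sub hq hd
      rw [show Fintype.card F - (Fintype.card F - 1) = 1 by omega, Nat.dvd_one] at this
      omega
    · have := Nat.dvd_sub hd hq
      rw [Nat.add_sub_cancel_left, Nat.dvd_one] at this
      omega
  rcases mul_self_eq_mul_self_iff.1 (show tr g * tr g = 2 * 2 by linear_combination h4) with h | h
  · exact ⟨g, rfl, hns, h⟩
  · refine ⟨-g, proj_eq_iff.2 (Or.inr (neg_neg g).symm), nonScalar_neg hns, by rw [tr_neg, h, neg_neg]⟩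

end

section

variable {F : Type} [Field F] [Fintype F]

local notation "SG" => Matrix.SpecialLinearGroup (Fin 2) F
local notation "PG" => Matrix.ProjectiveSpecialLinearGroup (Fin 2) F
local notation "M2" => Matrix (Fin 2) (Fin 2) F

open scoped _root_.Classical in
/-- The indicator of the elements of trace `± t`. -/
noncomputable def trInd (t : F) (π : PG) : ZMod 2 := if ∃ g : SG, proj g = π ∧ tr g = t then 1 else 0

open scoped _root_.Classical in
theorem trInd_proj (t : F) (g : SG) : trInd t (proj g) = if tr g = t ∨ tr g = -t then 1 else 0 := by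
  rw [trInd]
  refine if_congr ⟨?_, ?_⟩ rfl rfl
  · rintro ⟨h, hh, ht⟩
    rcases proj_eq_iff.1 hh with e | e
    · exact Or.inl (e ▸ ht)
    · exact Or.inr (by rw [e, tr_neg, ht])
  · rintro (h | h)
    · exact ⟨g, rfl, h⟩
    · exact ⟨-g, proj_eq_iff.2 (Or.inr (neg_neg g).symm), by rw [tr_neg, h, neg_neg]⟩

/-- Along a coset of a group of order p the indicator of an elliptic trace sums to zero. -/
theorem sum_trInd (p : ℕ) [hp : Fact p.Prime] [CharP F p] (hcard : Fintype.card F = p) (h2 : (2 : F) ≠ 0) {t : F}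
    (ht : NoRoot t) (ht0 : t ≠ 0) {u : PG} (hu : orderOf u = p) (π : PG) :
    ∑ i ∈ Finset.range p, trInd t (u ^ i * π) = 0 := by
  classical
  obtain ⟨U, rfl, hU, htU⟩ := exists_unipotent_lift p h2 hu
  obtain ⟨h, rfl⟩ := proj_surjective π
  set c := tr (U * h) - tr h with hc
  have htr : ∀ i : ℕ, tr (U ^ i * h) = tr h + (i : F) * c := fun i => by
    rw [tr_eq_trace, Matrix.SpecialLinearGroup.coe_mul, pow_of_tr_two htU, lin, Matrix.add_mul, Matrix.smul_mul,
      Matrix.smul_mul, Matrix.one_mul, Matrix.trace_add, Matrix.trace_smul, Matrix.trace_smul, hc, tr_eq_trace,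
      tr_eq_trace, Matrix.SpecialLinearGroup.coe_mul]
    simp only [smul_eq_mul]
    ring
  simp only [← map_pow, ← map_mul, trInd_proj, htr]
  have ht' : NoRoot (-t) := fun r hr => ht (-r) (by linear_combination hr)
  have hne : t ≠ -t := fun e => ht0 ((mul_eq_zero.1 (show (2 : F) * t = 0 by linear_combination e)).resolve_left h2)
  by_cases hc0 : c = 0
  · refine Finset.sum_eq_zero fun i _ => if_neg ?_
    rw [hc0, mul_zero, add_zero]
    intro h'
    refine root_of_const hU htU (sub_eq_zero.1 hc0) ?_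
    rcases h' with e | e <;> rw [e]
    · exact ht
    · exact ht'
  have hinj : ∀ i ∈ Finset.range p, ∀ j ∈ Finset.range p, (i : F) = (j : F) → i = j := fun i hi j hj e =>
    CharP.natCast_injOn_Iio F p (Finset.mem_range.1 hi) (Finset.mem_range.1 hj) e
  have himg : (Finset.range p).image (fun i : ℕ => (i : F)) = Finset.univ := by
    rw [← Finset.card_eq_iff_eq_univ, Finset.card_image_of_injOn hinj, Finset.card_range, hcard]
  have hs := Finset.sum_image (f := fun a : F => if tr h + a * c = t ∨ tr h + a * c = -t then (1 : ZMod 2) else 0) hinj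
  rw [himg] at hs
  rw [← hs, Finset.sum_boole]
  rw [show (Finset.univ.filter fun a : F => tr h + a * c = t ∨ tr h + a * c = -t) =
      {(t - tr h) / c, (-t - tr h) / c} by
    ext a
    simp only [Finset.mem_filter, Finset.mem_univ, true_and, Finset.mem_insert, Finset.mem_singleton,
      eq_div_iff hc0]
    exact or_congr ⟨fun e => by linear_combination e, fun e => by linear_combination e⟩
      ⟨fun e => by linear_combination e, fun e => by linear_combination e⟩]
  rw [Finset.card_pair (by
    intro e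
    rw [div_left_inj' hc0] at e
    exact hne (by linear_combination e))]
  rfl

/-- The functions with zero sum along every coset of every subgroup of order p. -/
def cuspSpace (p : ℕ) : AddSubgroup (PG → ZMod 2) where
  carrier := {f | ∀ u : PG, orderOf u = p → ∀ π, ∑ i ∈ Finset.range p, f (u ^ i * π) = 0}
  zero_mem' := fun u _ π => Finset.sum_const_zero
  add_mem' := fun {f g} hf hg u hu π => by
    simp only [Pi.add_apply, Finset.sum_add_distrib, hf u hu π, hg u hu π, add_zero]
  neg_mem' := fun {f} hf u hu π => by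
    simp only [Pi.neg_apply, Finset.sum_neg_distrib, hf u hu π, neg_zero]

omit [Fintype F] in
theorem cuspSpace_shift (p : ℕ) (g : PG) {f : PG → ZMod 2} (hf : f ∈ cuspSpace p) :
    (fun π => f (g * π)) ∈ cuspSpace p := fun u hu π => by
  have := hf (g * u * g⁻¹) (by rw [← MulAut.conj_apply, MulEquiv.orderOf_eq, hu]) (g * π)
  rw [← this]
  refine Finset.sum_congr rfl fun i _ => congrArg f ?_
  rw [conj_pow]; group

theorem exists_large_psl (p : ℕ) [hp : Fact p.Prime] [CharP F p] (hcard : Fintype.card F = p) (h5 : 5 ≤ p) (N : ℕ) :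
    ∃ (H : Type) (_ : Group H) (_ : Fintype H), N < Fintype.card H ∧
      Set.range (orderOf : H → ℕ) = {n | n ∣ p - 1 ∨ n ∣ p + 1 ∨ n = p} := by
  classical
  have h2 : (2 : F) ≠ 0 := fun e => by
    have := (CharP.cast_eq_zero_iff F p 2).1 (by exact_mod_cast e)
    have := Nat.le_of_dvd two_pos this
    omega
  have hodd := card_odd_of_two_ne_zero h2
  rw [hcard] at hodd
  have hgcd : Nat.gcd 2 (Fintype.card F - 1) = 2 := Nat.gcd_eq_left (by omega)
  have hcases : ∀ g : PG, orderOf g = p ∨ orderOf g * 2 ∣ p - 1 ∨ orderOf g * 2 ∣ p + 1 := fun g => by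
    obtain ⟨s, rfl⟩ := proj_surjective g
    rcases orderOf_proj_dvd s p with h | h | h
    · rcases (Nat.dvd_prime hp.out).1 h with e | e
      · exact Or.inr (Or.inl (by rw [e]; omega))
      · exact Or.inl e
    · rw [hgcd, hcard] at h
      exact Or.inr (Or.inl ((Nat.mul_dvd_mul_right h 2).trans (by
        rw [Nat.div_mul_cancel (Nat.dvd_of_mod_eq_zero (by omega))])))
    · rw [hgcd, hcard] at h
      exact Or.inr (Or.inr ((Nat.mul_dvd_mul_right h 2).trans (by
        rw [Nat.div_mul_cancel (Nat.dvd_of_mod_eq_zero (by omega))])))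
  -- an elliptic trace different from zero
  obtain ⟨t0, ht0⟩ := exists_noRoot (F := F)
  have hs0 : tr (comp t0) = t0 := by simp [tr, coe_comp]
  have hsq : tr (comp t0) * tr (comp t0) ≠ 4 := by rw [hs0]; exact sq_ne_four_of_noRoot h2 ht0
  have hcent : Nat.card (Subgroup.centralizer ({comp t0} : Set SG)) = p + 1 := by
    rw [card_cent_noRoot (by rw [hs0]; exact ht0) (nonScalar_comp t0), hcard]
  obtain ⟨x1, hx1, hxne, hxc⟩ := exists_generator_props h2 hsq (by rw [hcent]; omega)
  have ht : NoRoot (tr x1) := by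
    rcases noRoot_or_root (tr x1) with h | ⟨r, hr⟩
    · exact h
    · rw [hcent, card_cent_split hr hx1, hcard] at hxc
      omega
  have ht' : tr x1 ≠ 0 := fun e => hxne (by rw [e, neg_zero])
  have hf : trInd (tr x1) ∈ cuspSpace (F := F) p := fun u hu π => sum_trInd p hcard h2 ht ht' hu π
  -- the norm of a torus
  have hnorm : ∀ (x : SG), tr x * tr x ≠ 4 → ¬ p ∣ orderOf (proj x) →
      ∃ π : PG, ∑ i ∈ Finset.range (orderOf (proj x)), trInd (tr x1) (proj x ^ i * π) = 1 := by
    intro x hx hndvd
    obtain ⟨z, hz⟩ := exists_tangent hx h2 (tr x1)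
    refine ⟨proj z, ?_⟩
    simp only [← map_pow, ← map_mul, trInd_proj]
    rw [Finset.sum_eq_single 0]
    · rw [if_pos (Or.inl ?_)]
      rw [hz _ (pow_mem (self_mem_cent x) 0), pow_zero]
      simp [tr]; field_simp; norm_num
    · intro i hi hi0
      rw [hz _ (pow_mem (self_mem_cent x) i)]
      refine if_neg fun h => ?_
      have h4 : tr (x ^ i) * tr (x ^ i) = 4 := by
        have hi2 : tr (x ^ i) = 2 ∨ tr (x ^ i) = -2 := by
          rcases h with e | e
          · exact Or.inl (mul_left_cancel₀ (div_ne_zero ht' h2) (e.trans (div_mul_cancel₀ (tr x1) h2).symm))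
          · refine Or.inr (mul_left_cancel₀ (div_ne_zero ht' h2) (e.trans ?_))
            rw [mul_neg, div_mul_cancel₀ _ h2]
        rcases hi2 with e | e <;> rw [e] <;> ring
      have hc := pow_tr_eq_four h4 p
      rw [← pow_mul] at hc
      have hd := orderOf_proj_dvd_iff.2 hc
      have := (Nat.Coprime.dvd_of_dvd_mul_right ((hp.out.coprime_iff_not_dvd.2 hndvd).symm) hd)
      exact hi0 (Nat.eq_zero_of_dvd_of_lt this (Finset.mem_range.1 hi))
    · intro h
      exact absurd (Finset.mem_range.2 (orderOf_pos (proj x))) h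
  have htor : ∀ c, (c = p - 1 ∨ c = p + 1) →
      ∃ x : SG, orderOf (proj x) * 2 = c ∧ tr x * tr x ≠ 4 := by
    intro c hc
    obtain ⟨g, hg, hgc⟩ : ∃ g : SG, tr g * tr g ≠ 4 ∧ Nat.card (Subgroup.centralizer ({g} : Set SG)) = c := by
      rcases hc with rfl | rfl
      · obtain ⟨t, r, hr, ht⟩ := exists_split (F := F) (by rw [hcard]; omega)
        have hst : tr (comp t) = t := by simp [tr, coe_comp]
        exact ⟨comp t, by rw [hst]; exact ht,
          by rw [card_cent_split (r := r) (by rw [hst]; exact hr) (by rw [hst]; exact ht), hcard]⟩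
      · exact ⟨comp t0, hsq, hcent⟩
    obtain ⟨x, hx⟩ := exists_orderOf_proj hg hgc (fun _ => by omega)
    rw [hgcd] at hx
    refine ⟨x, by rw [hx, Nat.div_mul_cancel (Nat.dvd_of_mod_eq_zero (by omega))], fun h4 => ?_⟩
    have := orderOf_proj_dvd_iff.2 (pow_tr_eq_four h4 p)
    rw [hx] at this
    rcases (Nat.dvd_prime hp.out).1 this with e | e <;> omega
  have hdiv2 : ∀ s c, (c = p - 1 ∨ c = p + 1) → s ∣ c →
      (∃ g : PG, orderOf g = s) ∨ ∃ g : PG, ∃ f ∈ cuspSpace (F := F) p, ∃ π, orderOf g * 2 = s ∧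
        ∑ i ∈ Finset.range (orderOf g), f ((g ^ i)⁻¹ * π) ≠ 0 := by
    intro s c hc hs
    obtain ⟨x, hxo, hxt⟩ := htor c hc
    set n := orderOf (proj x) with hn
    have hn0 : 0 < n := orderOf_pos _
    have hnp : ¬ p ∣ n := fun h => by
      have := Nat.le_of_dvd hn0 h
      omega
    have hs0 : 0 < s := Nat.pos_of_dvd_of_pos hs (by omega)
    obtain ⟨k, hk⟩ := hs
    have hk0 : k ≠ 0 := fun e => by rw [e, mul_zero] at hk; omega
    rw [← hxo] at hk
    by_cases hsn : s ∣ n
    · obtain ⟨j, hj⟩ := hsn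
      refine Or.inl ⟨proj x ^ j, ?_⟩
      have hj0 : j ≠ 0 := fun e => by rw [e, mul_zero] at hj; omega
      rw [orderOf_pow' _ hj0, ← hn, hj, Nat.gcd_eq_right (dvd_mul_left _ _), Nat.mul_div_cancel _ (Nat.pos_of_ne_zero hj0)]
    · have hkodd : ¬ 2 ∣ k := fun ⟨j, hj⟩ => hsn ⟨j, by rw [hj] at hk; nlinarith⟩
      have hkn : k ∣ n := by
        have : k ∣ n * 2 := ⟨s, by rw [hk, mul_comm]⟩
        exact (Nat.Coprime.symm (Nat.prime_two.coprime_iff_not_dvd.2 hkodd)).dvd_of_dvd_mul_right this
      obtain ⟨m, hm⟩ := hkn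
      have hxk : orderOf (proj (x ^ k)) = m := by
        rw [map_pow, orderOf_pow' _ hk0, ← hn, hm, Nat.gcd_eq_right (dvd_mul_right _ _),
          Nat.mul_div_cancel_left _ (Nat.pos_of_ne_zero hk0)]
      have hsm : m * 2 = s := Nat.eq_of_mul_eq_mul_left (Nat.pos_of_ne_zero hk0) (by
        rw [← mul_assoc, ← hm, hk, mul_comm])
      by_cases hm1 : tr (x ^ k) * tr (x ^ k) = 4
      · -- then the element is trivial in the quotient and s = 2
        have hd := orderOf_proj_dvd_iff.2 (pow_tr_eq_four hm1 p)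
        rw [hxk] at hd
        have hmp : m = 1 := ((Nat.dvd_prime hp.out).1 hd).resolve_right fun e => hnp (by rw [hm, e]; exact dvd_mul_left _ _)
        have hne : ∃ π, trInd (tr x1) π ≠ 0 := ⟨proj x1, by rw [trInd_proj, if_pos (Or.inl rfl)]; exact one_ne_zero⟩
        obtain ⟨π, hπ⟩ := hne
        refine Or.inr ⟨1, _, hf, π, by rw [orderOf_one, ← hsm, hmp], ?_⟩
        simpa using hπ
      · obtain ⟨π, hπ⟩ := hnorm (x ^ k) hm1 (by rw [hxk]; exact fun h => hnp (hm ▸ h.trans (dvd_mul_left _ _)))
        refine Or.inr ⟨(proj (x ^ k))⁻¹, _, hf, π, by rw [orderOf_inv, hxk, hsm], ?_⟩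
        simp only [orderOf_inv, inv_pow, inv_inv]
        rw [hπ]
        exact one_ne_zero
  refine exists_of_functions (P := PG) (X := PG) 2 Nat.prime_two (fun g π => g⁻¹ * π)
    (fun π => by simp) (fun g h π => by simp [mul_assoc]) (cuspSpace p)
    (fun g f hf => cuspSpace_shift p g⁻¹ hf) _ ⟨_, hf, fun e => ?_⟩ (fun g => ?_) (fun g f hf' π hne => ?_)
    (fun s hs => ?_) N
  · have := congrFun e (proj x1)
    rw [trInd_proj, if_pos (Or.inl rfl)] at this
    exact one_ne_zero this
  · rcases hcases g with h | h | h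
    · exact Or.inr (Or.inr h)
    · exact Or.inl ((dvd_mul_right _ _).trans h)
    · exact Or.inr (Or.inl ((dvd_mul_right _ _).trans h))
  · rcases hcases g with h | h | h
    · refine absurd ?_ hne
      rw [h]
      simp only [← inv_pow]
      exact hf' g⁻¹ (by rw [orderOf_inv, h]) π
    · exact Or.inl h
    · exact Or.inr (Or.inl h)
  · rcases hs with h | h | h
    · exact hdiv2 s _ (Or.inl rfl) h
    · exact hdiv2 s _ (Or.inr rfl) h
    · refine Or.inl ⟨proj (comp 2), ?_⟩
      have h1 : orderOf (proj (comp (2 : F))) ∣ p := orderOf_proj_dvd_iff.2 (pow_tr_eq_four (by rw [tr_comp]; ring) p)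
      rw [h]
      refine ((Nat.dvd_prime hp.out).1 h1).resolve_left fun e => ?_
      exact mem_center_iff.1 (proj_eq_one.1 (orderOf_eq_one_iff.1 e)) (nonScalar_comp 2)

end

end Cfsg.Agent.Fg24.IsoPGL
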