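import Mathlib
import Cfsg.Agent.Fg24.IsoPGL.Semidirect

/-!
Arbitrarily large groups with element orders {1,2,3}, {1,2,3,4} and {1,2,3,4,5,8,10}.
-/

set_option autoImplicit false

namespace Cfsg.Agent.Fg24.IsoPGL

/-- Element orders {1, 2, 3}. -/
theorem exists_large_two (N : ℕ) :
    ∃ (H : Type) (_ : Group H) (_ : Fintype H), N < Fintype.card H ∧
      Set.range (orderOf : H → ℕ) = ({1, 2, 3} : Set ℕ) := by
  classical
  let V : AddSubgroup (Fin 2 → ZMod 3) :=
    { carrier := {f | f 0 + f 1 = 0}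
      zero_mem' := by simp
      add_mem' := fun {f g} hf hg => by
        simp only [Set.mem_setOf_eq] at hf hg ⊢
        simp only [Pi.add_apply]; linear_combination hf + hg
      neg_mem' := fun {f} hf => by
        simp only [Set.mem_setOf_eq] at hf ⊢
        simp only [Pi.neg_apply]; linear_combination -hf }
  have hcases : ∀ g : Equiv.Perm (Fin 2), g ^ 2 = 1 := by decide
  have hsum : ∀ (g : Equiv.Perm (Fin 2)) (f : Fin 2 → ZMod 3) (x : Fin 2), g ≠ 1 → f 0 + f 1 = 0 →
      ∑ i ∈ Finset.range 2, f ((g ^ i)⁻¹ x) = 0 := by decide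
  have hord : ∀ g : Equiv.Perm (Fin 2), orderOf g = 1 ∨ orderOf g = 2 := fun g =>
    (Nat.dvd_prime Nat.prime_two).1 (orderOf_dvd_of_pow_eq_one (hcases g))
  have hperm : ∀ (g : Equiv.Perm (Fin 2)) (f : Fin 2 → ZMod 3), f 0 + f 1 = 0 → f (g⁻¹ 0) + f (g⁻¹ 1) = 0 := by
    decide
  refine exists_of_functions (P := Equiv.Perm (Fin 2)) 3 Nat.prime_three (fun g x => g⁻¹ x) (fun x => by simp)
    (fun g h x => by simp) V (fun g f hf => hperm g f hf) _
    ⟨![1, 2], show (1 : ZMod 3) + 2 = 0 by decide, fun e => absurd (congrFun e 0) (by decide)⟩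
    (fun g => by rcases hord g with h | h <;> simp [h]) (fun g f hf x hne => ?_) (fun s hs => ?_) N
  · rcases hord g with h | h
    · rw [h]; simp
    · refine absurd ?_ hne
      rw [h]
      exact hsum g f x (fun e => by simp [e] at h) hf
  · rcases hs with rfl | rfl | rfl
    · exact Or.inl ⟨1, orderOf_one⟩
    · exact Or.inl ⟨Equiv.swap 0 1, orderOf_eq_prime (hcases _) (by decide)⟩
    · exact Or.inr ⟨1, ![1, 2], show (1 : ZMod 3) + 2 = 0 by decide, 0, by rw [orderOf_one, one_mul],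
        by simp⟩

/-- Element orders {1, 2, 3, 4}. -/
theorem exists_large_three (N : ℕ) :
    ∃ (H : Type) (_ : Group H) (_ : Fintype H), N < Fintype.card H ∧
      Set.range (orderOf : H → ℕ) = ({1, 2, 3, 4} : Set ℕ) := by
  classical
  let V : AddSubgroup (Fin 3 → ZMod 2) :=
    { carrier := {f | f 0 + f 1 + f 2 = 0}
      zero_mem' := by simp
      add_mem' := fun {f g} hf hg => by
        simp only [Set.mem_setOf_eq] at hf hg ⊢
        simp only [Pi.add_apply]; linear_combination hf + hg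
      neg_mem' := fun {f} hf => by
        simp only [Set.mem_setOf_eq] at hf ⊢
        simp only [Pi.neg_apply]; linear_combination -hf }
  have hcases : ∀ g : Equiv.Perm (Fin 3), g ^ 2 = 1 ∨ g ^ 3 = 1 := by decide
  have hsum : ∀ (g : Equiv.Perm (Fin 3)) (f : Fin 3 → ZMod 2) (x : Fin 3), g ^ 3 = 1 → g ≠ 1 →
      f 0 + f 1 + f 2 = 0 → ∑ i ∈ Finset.range 3, f ((g ^ i)⁻¹ x) = 0 := by decide
  have hord : ∀ g : Equiv.Perm (Fin 3), orderOf g = 1 ∨ orderOf g = 2 ∨ orderOf g = 3 := fun g => by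
    rcases hcases g with h | h
    · rcases (Nat.dvd_prime Nat.prime_two).1 (orderOf_dvd_of_pow_eq_one h) with e | e <;> simp [e]
    · rcases (Nat.dvd_prime Nat.prime_three).1 (orderOf_dvd_of_pow_eq_one h) with e | e <;> simp [e]
  have hperm : ∀ (g : Equiv.Perm (Fin 3)) (f : Fin 3 → ZMod 2), f 0 + f 1 + f 2 = 0 →
      f (g⁻¹ 0) + f (g⁻¹ 1) + f (g⁻¹ 2) = 0 := by decide
  refine exists_of_functions (P := Equiv.Perm (Fin 3)) 2 Nat.prime_two (fun g x => g⁻¹ x) (fun x => by simp)
    (fun g h x => by simp) V (fun g f hf => hperm g f hf) _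
    ⟨![1, 1, 0], show (1 : ZMod 2) + 1 + 0 = 0 by decide, fun e => absurd (congrFun e 0) (by decide)⟩
    (fun g => by rcases hord g with h | h | h <;> simp [h]) (fun g f hf x hne => ?_) (fun s hs => ?_) N
  · rcases hord g with h | h | h
    · rw [h]; simp
    · rw [h]; simp
    · refine absurd ?_ hne
      rw [h]
      exact hsum g f x (by have h' := pow_orderOf_eq_one g; rwa [h] at h') (fun e => by simp [e] at h) hf
  · rcases hs with rfl | rfl | rfl | rfl
    · exact Or.inl ⟨1, orderOf_one⟩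
    · exact Or.inl ⟨Equiv.swap 0 1, orderOf_eq_prime (by decide) (by decide)⟩
    · exact Or.inl ⟨Equiv.swap 0 1 * Equiv.swap 1 2, orderOf_eq_prime (by decide) (by decide)⟩
    · refine Or.inr ⟨Equiv.swap 0 1, ![1, 0, 1], show (1 : ZMod 2) + 0 + 1 = 0 by decide, 0, ?_, ?_⟩
      · rw [orderOf_eq_prime (by decide : (Equiv.swap 0 1 : Equiv.Perm (Fin 3)) ^ 2 = 1) (by decide)]
      · rw [orderOf_eq_prime (by decide : (Equiv.swap 0 1 : Equiv.Perm (Fin 3)) ^ 2 = 1) (by decide)]
        decide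

/-- Multiplication by a primitive tenth root of unity on the field of 81 elements. -/
def matA : Matrix (Fin 4) (Fin 4) (ZMod 3) := !![0, 0, 0, 2; 1, 0, 0, 1; 0, 1, 0, 2; 0, 0, 1, 1]

/-- A semilinear map normalising it with fourth power minus one. -/
def matB : Matrix (Fin 4) (Fin 4) (ZMod 3) := !![0, 2, 1, 0; 0, 2, 2, 1; 1, 0, 1, 1; 1, 0, 1, 0]

theorem matA_pow : matA ^ 10 = 1 := by decide +kernel

theorem matB_pow : matB ^ 8 = 1 := by decide +kernel

theorem matBA : matB * matA = matA ^ 3 * matB := by decide +kernel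

theorem matB_four : matB ^ 4 = matA ^ 5 := by decide +kernel

/-- The forty elements: their exponents and no fixed vector outside the identity. -/
theorem mat_facts : ∀ (i : Fin 10) (j : Fin 4),
    ((matA ^ (i : ℕ) * matB ^ (j : ℕ)) ^ 8 = 1 ∨ (matA ^ (i : ℕ) * matB ^ (j : ℕ)) ^ 10 = 1) ∧
      (matA ^ (i : ℕ) * matB ^ (j : ℕ) = 1 ∨ (matA ^ (i : ℕ) * matB ^ (j : ℕ) - 1).det ≠ 0) := by
  decide +kernel

theorem matA_mul_pow (i : ℕ) : matB * matA ^ i = matA ^ (3 * i) * matB := by
  induction i with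
  | zero => simp
  | succ i ih =>
    rw [pow_succ, ← mul_assoc, ih, mul_assoc, matBA, ← mul_assoc, ← pow_add]
    rfl

local notation "M4" => Matrix (Fin 4) (Fin 4) (ZMod 3)

/-- Element orders {1, 2, 3, 4, 5, 8, 10}. -/
theorem exists_large_nine (N : ℕ) :
    ∃ (H : Type) (_ : Group H) (_ : Fintype H), N < Fintype.card H ∧
      Set.range (orderOf : H → ℕ) = ({1, 2, 3, 4, 5, 8, 10} : Set ℕ) := by
  classical
  let uA : M4ˣ := ⟨matA, matA ^ 9, by rw [← pow_succ']; exact matA_pow, by rw [← pow_succ]; exact matA_pow⟩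
  let uB : M4ˣ := ⟨matB, matB ^ 7, by rw [← pow_succ']; exact matB_pow, by rw [← pow_succ]; exact matB_pow⟩
  let P : Subgroup M4ˣ := Subgroup.closure {uA, uB}
  have hform : ∀ u ∈ P, ∃ i j : ℕ, (u : M4) = matA ^ i * matB ^ j := by
    have hmulB : ∀ i j : ℕ, ∃ i', matB ^ j * matA ^ i = matA ^ i' * matB ^ j := by
      intro i j
      induction j with
      | zero => exact ⟨i, by simp⟩
      | succ j ih =>
        obtain ⟨i', hi'⟩ := ih
        refine ⟨3 * i', ?_⟩
        rw [pow_succ', mul_assoc, hi', ← mul_assoc, matA_mul_pow, mul_assoc]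
    intro u hu
    refine Subgroup.closure_induction (p := fun (u : M4ˣ) _ => ∃ i j : ℕ, (u : M4) = matA ^ i * matB ^ j) ?_ ?_ ?_ ?_ hu
    · rintro _ (rfl | rfl)
      · exact ⟨1, 0, by rw [pow_one, pow_zero, mul_one]⟩
      · exact ⟨0, 1, by rw [pow_zero, pow_one, one_mul]⟩
    · exact ⟨0, 0, by simp⟩
    · rintro x y - - ⟨i, j, hx⟩ ⟨k, l, hy⟩
      obtain ⟨k', hk'⟩ := hmulB k j
      refine ⟨i + k', j + l, ?_⟩
      rw [Units.val_mul, hx, hy, mul_assoc, ← mul_assoc (matB ^ j), hk', mul_assoc, ← pow_add, ← mul_assoc,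
        ← pow_add]
    · rintro x - ⟨i, j, hx⟩
      obtain ⟨i', hi'⟩ := hmulB (9 * i) (7 * j)
      refine ⟨i', 7 * j, ?_⟩
      rw [← hi']
      refine Units.inv_eq_of_mul_eq_one_right ?_
      rw [hx, mul_assoc, ← mul_assoc (matB ^ j), ← pow_add, show j + 7 * j = 8 * j by omega, pow_mul, matB_pow,
        one_pow, one_mul, ← pow_add, show i + 9 * i = 10 * i by omega, pow_mul, matA_pow, one_pow]
  have hfacts : ∀ u : P, ((u.1 : M4) ^ 8 = 1 ∨ (u.1 : M4) ^ 10 = 1) ∧
      (u ≠ 1 → ∀ v : Fin 4 → ZMod 3, (u.1 : M4).mulVec v = v → v = 0) := by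
    intro u
    obtain ⟨i, j, he⟩ := hform u.1 u.2
    have he' : (u.1 : M4) = matA ^ ((i + 5 * (j / 4)) % 10) * matB ^ (j % 4) := by
      rw [he, ← pow_eq_pow_mod _ matA_pow, pow_add, pow_mul, ← matB_four, ← pow_mul, mul_assoc, ← pow_add,
        Nat.div_add_mod]
    have hf := mat_facts ⟨(i + 5 * (j / 4)) % 10, Nat.mod_lt _ (by norm_num : 10 > 0)⟩ ⟨j % 4, Nat.mod_lt j (by norm_num : 4 > 0)⟩
    rw [← he'] at hf
    refine ⟨hf.1, fun hu v hv => ?_⟩
    have hd := hf.2.resolve_left fun e => hu (Subtype.ext (Units.ext e))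
    exact Matrix.eq_zero_of_mulVec_eq_zero hd (by rw [Matrix.sub_mulVec, Matrix.one_mulVec, hv, sub_self])
  have hpowP : ∀ (u : P) (n : ℕ), (u.1 : M4) ^ n = 1 → u ^ n = 1 := fun u n h =>
    Subtype.ext (Units.ext (by simpa using h))
  have hord : ∀ u : P, orderOf u ∈ ({1, 2, 3, 4, 5, 8, 10} : Set ℕ) := by
    intro u
    rcases (hfacts u).1 with h | h <;> have hd := orderOf_dvd_of_pow_eq_one (hpowP u _ h) <;>
      have hle := Nat.le_of_dvd (by norm_num) hd <;>
      (simp only [Set.mem_insert_iff, Set.mem_singleton_iff]; interval_cases orderOf u <;> omega)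
  let W := Fin (N + 1) → Fin 4 → ZMod 3
  have hm1 : ∀ v : W, (fun j => ((1 : P).1 : M4).mulVec (v j)) = v := fun v => funext fun j => Matrix.one_mulVec _
  have hmm : ∀ (g h : P) (v : W), (fun j => ((g * h).1 : M4).mulVec (v j)) =
      fun j => (g.1 : M4).mulVec ((h.1 : M4).mulVec (v j)) := fun g h v => funext fun j => by
    rw [Matrix.mulVec_mulVec]; rfl
  let ρ : P → W ≃+ W := fun g =>
    { toFun := fun v j => (g.1 : M4).mulVec (v j)
      invFun := fun v j => ((g⁻¹).1 : M4).mulVec (v j)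
      left_inv := fun v => ((hmm g⁻¹ g v).symm.trans (by rw [inv_mul_cancel]; exact hm1 v))
      right_inv := fun v => ((hmm g g⁻¹ v).symm.trans (by rw [mul_inv_cancel]; exact hm1 v))
      map_add' := fun v w => funext fun j => Matrix.mulVec_add _ _ _ }
  have hzero : ∀ (g : P) (v : W), g ≠ 1 → ∑ i ∈ Finset.range (orderOf g), ρ (g ^ i) v = 0 := by
    intro g v hg
    funext j
    refine (hfacts g).2 hg _ ?_
    rw [Finset.sum_apply, Matrix.mulVec_sum]
    calc (∑ i ∈ Finset.range (orderOf g), (g.1 : M4).mulVec (ρ (g ^ i) v j))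
        = ∑ i ∈ Finset.range (orderOf g), ρ (g ^ (i + 1)) v j :=
          Finset.sum_congr rfl fun i _ => by rw [pow_succ']; exact (congrFun (hmm g (g ^ i) v) j).symm
      _ = ∑ i ∈ Finset.range (orderOf g), ρ (g ^ i) v j := by
          have h := Finset.sum_range_succ' (fun i => ρ (g ^ i) v j) (orderOf g)
          rw [Finset.sum_range_succ, pow_orderOf_eq_one, pow_zero] at h
          exact (add_right_cancel h).symm
  have hpos : ∀ (u : M4ˣ) (hu : u ∈ P) (n : ℕ), 0 < n → (u : M4) ^ n = 1 →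
      (∀ d : ℕ, d ∈ n.divisors → d ≠ n → (u : M4) ^ d ≠ 1) → orderOf (⟨u, hu⟩ : P) = n := by
    intro u hu n hn0 h hd
    rw [← orderOf_injective P.subtype Subtype.coe_injective]
    have hun : u ^ n = 1 := Units.ext (by simpa using h)
    by_contra hne
    refine hd _ (Nat.mem_divisors.2 ⟨orderOf_dvd_of_pow_eq_one hun, hn0.ne'⟩) hne ?_
    rw [← Units.val_pow_eq_pow_val]
    exact congrArg Units.val (pow_orderOf_eq_one (P.subtype ⟨u, hu⟩))
  have hA : uA ∈ P := Subgroup.subset_closure (by simp)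
  have hB : uB ∈ P := Subgroup.subset_closure (by simp)
  obtain ⟨H, i1, i2, hle, heq⟩ := exists_semidirect (P := P) (W := W) 3 Nat.prime_three
    (fun v => funext fun j => funext fun x => by
      show (3 : ℕ) • v j x = 0
      rw [nsmul_eq_mul, show ((3 : ℕ) : ZMod 3) = 0 from ZMod.natCast_self 3, zero_mul])
    ρ hm1 hmm ({1, 2, 3, 4, 5, 8, 10} : Set ℕ) hord
    (fun g v hne => by
      by_cases hg : g = 1
      · subst hg; rw [orderOf_one]; simp
      · exact absurd (hzero g v hg) hne)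
    (fun s hs => by
      rcases hs with rfl | rfl | rfl | rfl | rfl | rfl | rfl
      · exact Or.inl ⟨1, orderOf_one⟩
      · exact Or.inl ⟨_, hpos _ (pow_mem hA 5) 2 (by norm_num) (by decide +kernel) (by decide +kernel)⟩
      · refine Or.inr ⟨1, fun _ _ => 1, by rw [orderOf_one, one_mul], fun h => ?_⟩
        rw [orderOf_one, Finset.sum_range_one, pow_zero] at h
        rw [show ρ 1 (fun _ _ => (1 : ZMod 3)) = (fun _ _ => 1) from hm1 (fun _ _ => 1)] at h
        have := congrFun (congrFun h 0) 0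
        exact one_ne_zero this
      · exact Or.inl ⟨_, hpos _ (pow_mem hB 2) 4 (by norm_num) (by decide +kernel) (by decide +kernel)⟩
      · exact Or.inl ⟨_, hpos _ (pow_mem hA 2) 5 (by norm_num) (by decide +kernel) (by decide +kernel)⟩
      · exact Or.inl ⟨_, hpos _ hB 8 (by norm_num) (by decide +kernel) (by decide +kernel)⟩
      · exact Or.inl ⟨_, hpos _ hA 10 (by norm_num) (by decide +kernel) (by decide +kernel)⟩)
  refine ⟨H, i1, i2, lt_of_lt_of_le ?_ hle, heq⟩
  calc N < N + 1 := Nat.lt_succ_self N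
    _ ≤ 3 ^ (N + 1) := (Nat.lt_pow_self (by norm_num)).le
    _ ≤ Nat.card W := by
      rw [Nat.card_eq_fintype_card]
      simp only [W, Fintype.card_fun, ZMod.card, Fintype.card_fin, ← pow_mul]
      exact Nat.pow_le_pow_right (by norm_num) (by omega)

end Cfsg.Agent.Fg24.IsoPGL
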