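import Mathlib
import Cfsg.Agent.SL2Class.PSL

/-!
Element orders of PGL(2, F), the units of the quadratic extension giving the elements of order q + 1.
-/

set_option autoImplicit false

namespace Cfsg.Agent.Fg24.IsoPGL

open Matrix Cfsg.Agent.SL2Class

variable {F : Type*} [Field F] [Fintype F]

local notation "G2" => Matrix.GeneralLinearGroup (Fin 2) F
local notation "PGL" => Matrix.GeneralLinearGroup (Fin 2) F ⧸ Subgroup.center (Matrix.GeneralLinearGroup (Fin 2) F)
local notation "SG" => Matrix.SpecialLinearGroup (Fin 2) F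
local notation "M2" => Matrix (Fin 2) (Fin 2) F

omit [Fintype F] in
theorem mem_center_iff_scalar {g : G2} :
    g ∈ Subgroup.center G2 ↔ ∃ c : F, (g : M2) = Matrix.scalar (Fin 2) c := by
  rw [Matrix.GeneralLinearGroup.mem_center_iff_val_mem_range_scalar]
  exact ⟨fun ⟨c, hc⟩ => ⟨c, hc.symm⟩, fun ⟨c, hc⟩ => ⟨c, hc.symm⟩⟩

omit [Fintype F] in
theorem orderOf_pgl_dvd_iff {g : G2} {k : ℕ} :
    orderOf (QuotientGroup.mk g : PGL) ∣ k ↔ ∃ c : F, ((g : M2)) ^ k = Matrix.scalar (Fin 2) c := by
  rw [orderOf_dvd_iff_pow_eq_one, ← QuotientGroup.mk_pow, QuotientGroup.eq_one_iff, mem_center_iff_scalar,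
    Units.val_pow_eq_pow_val]

omit [Fintype F] in
theorem scalar_eq_smul (c : F) : Matrix.scalar (Fin 2) c = c • (1 : M2) := by
  ext i j; fin_cases i <;> fin_cases j <;> simp

omit [Fintype F] in
theorem add_pow_char_smul {p : ℕ} [hp : Fact p.Prime] [CharP F p] (a b : F) (N : M2) (hN : N * N = 0) :
    (a • (1 : M2) + b • N) ^ p = a ^ p • (1 : M2) := by
  have key : ∀ k : ℕ, (a • (1 : M2) + b • N) ^ k = a ^ k • (1 : M2) + ((k : F) * a ^ (k - 1) * b) • N := by
    intro k
    induction k with
    | zero => simp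
    | succ k ih =>
      rw [pow_succ, ih]
      simp only [add_mul, mul_add, smul_mul_smul_comm, one_mul, mul_one, hN, smul_zero, add_zero]
      rw [add_assoc, ← add_smul, pow_succ]
      congr 2
      rcases k with _ | k
      · simp
      · push_cast; ring
  rw [key, CharP.cast_eq_zero, zero_mul, zero_mul, zero_smul, add_zero]

/-- Every order divides q - 1, q + 1, or is the characteristic (q odd). -/
theorem order_cases (p : ℕ) [hp : Fact p.Prime] [CharP F p] (h2 : (2 : F) ≠ 0) (x : PGL) :
    orderOf x ∣ Fintype.card F - 1 ∨ orderOf x ∣ Fintype.card F + 1 ∨ orderOf x = p := by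
  obtain ⟨g, rfl⟩ := QuotientGroup.mk_surjective x
  set M : M2 := (g : M2) with hM
  have hd : M.det ≠ 0 := Matrix.GeneralLinearGroup.det_ne_zero g
  let s : SG := ⟨M.det⁻¹ • (M * M), by
    rw [Matrix.det_smul, Matrix.det_mul, Fintype.card_fin]; field_simp⟩
  have hs : (s : M2) = M.det⁻¹ • (M * M) := rfl
  have hkey : ∀ k, orderOf (proj s) ∣ k → orderOf (QuotientGroup.mk g : PGL) ∣ 2 * k := by
    intro k hk
    rw [orderOf_pgl_dvd_iff]
    have hc := orderOf_proj_dvd_iff.1 hk
    have hk' : ((s : M2)) ^ k = M.det⁻¹ ^ k • M ^ (2 * k) := by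
      rw [hs, smul_pow, pow_mul, pow_two]
    rcases mem_center_cases.1 hc with e | e <;> have e' := congrArg (fun y : SG => (y : M2)) e <;>
      simp only [Matrix.SpecialLinearGroup.coe_pow, Matrix.SpecialLinearGroup.coe_one, coe_neg_one, hk'] at e'
    · refine ⟨M.det ^ k, ?_⟩
      rw [scalar_eq_smul, ← e', smul_smul, ← mul_pow, mul_inv_cancel₀ hd, one_pow, one_smul]
    · refine ⟨-(M.det ^ k), ?_⟩
      rw [scalar_eq_smul, neg_smul, ← smul_neg, ← e', smul_smul, ← mul_pow, mul_inv_cancel₀ hd, one_pow, one_smul]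
  have hodd := card_odd_of_two_ne_zero h2
  have hg2 : Nat.gcd 2 (Fintype.card F - 1) = 2 := Nat.gcd_eq_left (by omega)
  by_cases ht : tr s * tr s = 4
  · by_cases hns : NonScalar s
    · -- g commutes with the unipotent s
      obtain ⟨a, b, hab⟩ := exists_lin hns (M := M) (by
        rw [hs, Matrix.mul_smul, Matrix.smul_mul, Matrix.mul_assoc])
      set N : M2 := lin s (-(tr s / 2)) 1 with hN
      have h4 : (2 : F) * 2 ≠ 0 := mul_ne_zero h2 h2
      have hNN : N * N = 0 := by
        have e1 : -(tr s / 2) * -(tr s / 2) - 1 * 1 = 0 := by field_simp; linear_combination ht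
        have e2 : -(tr s / 2) * 1 + 1 * -(tr s / 2) + tr s * 1 * 1 = 0 := by field_simp; ring
        rw [hN, lin_mul, e1, e2, lin, zero_smul, zero_smul, add_zero]
      have hM' : M = (a + b * (tr s / 2)) • (1 : M2) + b • N := by
        rw [hab, hN]
        ext i j
        simp only [lin_apply, Matrix.add_apply, Matrix.smul_apply, smul_eq_mul]
        ring
      have hdiv : orderOf (QuotientGroup.mk g : PGL) ∣ p := by
        rw [orderOf_pgl_dvd_iff]
        exact ⟨_, by rw [← hM, hM', add_pow_char_smul _ _ _ hNN, scalar_eq_smul]⟩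
      rcases (Nat.dvd_prime hp.out).1 hdiv with h | h
      · exact Or.inl (by rw [h]; exact one_dvd _)
      · exact Or.inr (Or.inr h)
    · have : orderOf (proj s) ∣ 1 := orderOf_proj_dvd_iff.2 (by
        rw [pow_one]; exact mem_center_iff.2 hns)
      exact Or.inl ((hkey 1 this).trans (by omega))
  · rcases orderOf_proj_dvd s p with h | h | h
    · exfalso
      have hp' := orderOf_proj_dvd_iff.1 h
      rcases (Nat.dvd_prime hp.out).1 h with h1 | h1
      · have h1' : s ^ 1 ∈ Subgroup.center SG := orderOf_proj_dvd_iff.1 (h1 ▸ dvd_rfl)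
        rw [pow_one] at h1'
        rcases mem_center_cases.1 h1' with e | e
        · exact ht (by rw [e]; simp [tr]; norm_num)
        · exact ht (by rw [e]; simp [tr]; norm_num)
      · rcases card_cent_semisimple ht with e | e
        all_goals
          have hmem := self_mem_cent s
          have hpow : s ^ Nat.card (Subgroup.centralizer ({s} : Set SG)) = 1 :=
            congrArg Subtype.val (pow_card_eq_one' (x := (⟨s, hmem⟩ : Subgroup.centralizer ({s} : Set SG))))
          have hd' : p ∣ Nat.card (Subgroup.centralizer ({s} : Set SG)) := by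
            rw [← h1]
            exact (orderOf_map_dvd proj s).trans (orderOf_dvd_of_pow_eq_one hpow)
          rw [e] at hd'
          obtain ⟨n, -, hn⟩ := FiniteField.card F p
          have hq : p ∣ Fintype.card F := hn ▸ dvd_pow_self p n.ne_zero
          have := hp.out.one_lt
          have := Fintype.one_lt_card (α := F)
        · have := Nat.dvd_sub hq hd'
          rw [show Fintype.card F - (Fintype.card F - 1) = 1 by omega, Nat.dvd_one] at this
          omega
        · have := Nat.dvd_sub hd' hq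
          rw [Nat.add_sub_cancel_left, Nat.dvd_one] at this
          omega
    · rw [hg2] at h
      exact Or.inl ((hkey _ h).trans (by rw [Nat.mul_div_cancel' (Nat.dvd_of_mod_eq_zero (by omega))]))
    · rw [hg2] at h
      exact Or.inr (Or.inl ((hkey _ h).trans (by rw [Nat.mul_div_cancel' (Nat.dvd_of_mod_eq_zero (by omega))])))

/-- An element of order q - 1. -/
theorem exists_order_sub_one : ∃ x : PGL, orderOf x = Fintype.card F - 1 := by
  obtain ⟨ω, hω⟩ := IsCyclic.exists_generator (α := Fˣ)
  have hord : orderOf ω = Fintype.card F - 1 := by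
    rw [orderOf_eq_card_of_forall_mem_zpowers hω, Nat.card_units, Nat.card_eq_fintype_card]
  let g : G2 := Matrix.GeneralLinearGroup.mkOfDetNeZero !![(ω : F), 0; 0, 1] (by simp)
  refine ⟨QuotientGroup.mk g, ?_⟩
  have hpow : ∀ k : ℕ, (!![(ω : F), 0; 0, 1] : M2) ^ k = !![(ω : F) ^ k, 0; 0, 1] := by
    intro k
    induction k with
    | zero => simp [Matrix.one_fin_two]
    | succ k ih => rw [pow_succ, ih]; simp [Matrix.mul_fin_two, pow_succ]
  refine Nat.dvd_antisymm ?_ ?_
  · rw [orderOf_pgl_dvd_iff]
    refine ⟨1, ?_⟩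
    show (!![(ω : F), 0; 0, 1] : M2) ^ _ = _
    rw [hpow, ← hord, ← Units.val_pow_eq_pow_val, pow_orderOf_eq_one]
    simp [Matrix.one_fin_two]
  · obtain ⟨c, hc⟩ := (orderOf_pgl_dvd_iff (g := g)).1 dvd_rfl
    change (!![(ω : F), 0; 0, 1] : M2) ^ _ = _ at hc
    rw [hpow] at hc
    have h1 := congrFun (congrFun hc 1) 1
    have h0 := congrFun (congrFun hc 0) 0
    simp at h1 h0
    rw [← hord]
    exact orderOf_dvd_of_pow_eq_one (Units.ext (by rw [Units.val_pow_eq_pow_val, h0, ← h1, Units.val_one]))

/-- An element of order q + 1. -/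
theorem exists_order_add_one (p : ℕ) [Fact p.Prime] [CharP F p] :
    ∃ x : PGL, orderOf x = Fintype.card F + 1 := by
  classical
  let E := FiniteField.Extension F p 2
  have hfr : Module.finrank F E = 2 := FiniteField.finrank_extension F p 2
  haveI : Finite E := inferInstance
  haveI : Fintype E := Fintype.ofFinite E
  have hcard : Fintype.card E = Fintype.card F ^ 2 := by
    rw [Module.card_eq_pow_finrank (K := F) (V := E), hfr]
  let b : Module.Basis (Fin 2) F E := Module.finBasisOfFinrankEq F E hfr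
  obtain ⟨ω, hω⟩ := IsCyclic.exists_generator (α := Eˣ)
  have hord : orderOf ω = Fintype.card F ^ 2 - 1 := by
    rw [orderOf_eq_card_of_forall_mem_zpowers hω, Nat.card_units, Nat.card_eq_fintype_card, hcard]
  let g : G2 := Units.map (Algebra.leftMulMatrix b).toMonoidHom ω
  refine ⟨QuotientGroup.mk g, ?_⟩
  have hscal : ∀ k, orderOf (QuotientGroup.mk g : PGL) ∣ k ↔ ((ω : E) ^ k) ^ Fintype.card F = (ω : E) ^ k := by
    intro k
    rw [orderOf_pgl_dvd_iff]
    have hg : ((g : G2) : M2) ^ k = Algebra.leftMulMatrix b ((ω : E) ^ k) := by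
      rw [map_pow]; rfl
    rw [hg]
    constructor
    · rintro ⟨c, hc⟩
      have : (ω : E) ^ k = algebraMap F E c := Algebra.leftMulMatrix_injective b (by
        rw [hc, AlgHom.commutes]; rfl)
      rw [this, ← map_pow, FiniteField.pow_card]
    · intro h
      obtain ⟨c, hc⟩ : ∃ c, algebraMap F E c = (ω : E) ^ k := by
        have hne : (Polynomial.X ^ Fintype.card F - Polynomial.X : Polynomial E) ≠ 0 :=
          FiniteField.X_pow_card_sub_X_ne_zero E Fintype.one_lt_card
        let R := (Polynomial.X ^ Fintype.card F - Polynomial.X : Polynomial E).roots.toFinset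
        have hmem : ∀ y : E, y ^ Fintype.card F = y → y ∈ R := fun y hy => by
          simp [R, hne, hy]
        have hsub : Finset.univ.image (algebraMap F E) ⊆ R := fun y hy => by
          obtain ⟨c, -, rfl⟩ := Finset.mem_image.1 hy
          exact hmem _ (by rw [← map_pow, FiniteField.pow_card])
        have heq := Finset.eq_of_subset_of_card_le hsub (by
          rw [Finset.card_image_of_injective _ (algebraMap F E).injective, Finset.card_univ]
          refine (Multiset.toFinset_card_le _).trans ((Polynomial.card_roots' _).trans ?_)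
          rw [FiniteField.X_pow_card_sub_X_natDegree_eq E Fintype.one_lt_card])
        have := hmem _ h
        rw [← heq] at this
        obtain ⟨c, -, hc⟩ := Finset.mem_image.1 this
        exact ⟨c, hc⟩
      exact ⟨c, by rw [← hc, AlgHom.commutes]; rfl⟩
  have hq := Fintype.one_lt_card (α := F)
  have hk : ∀ k, orderOf (QuotientGroup.mk g : PGL) ∣ k ↔ Fintype.card F + 1 ∣ k := by
    intro k
    rw [hscal]
    have e : ((ω : E) ^ k) ^ Fintype.card F = (ω : E) ^ k ↔ ω ^ (k * (Fintype.card F - 1)) = 1 := by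
      rw [← Units.val_pow_eq_pow_val, ← Units.val_pow_eq_pow_val, Units.val_inj]
      conv_lhs => rw [← pow_mul, show k * Fintype.card F = k * (Fintype.card F - 1) + k by
        rw [← Nat.mul_succ]; congr 1; omega, pow_add]
      exact mul_eq_right
    rw [e, ← orderOf_dvd_iff_pow_eq_one, hord, show Fintype.card F ^ 2 - 1 =
      (Fintype.card F + 1) * (Fintype.card F - 1) by rw [← Nat.sq_sub_sq, one_pow]]
    exact Nat.mul_dvd_mul_iff_right (by omega)
  exact Nat.dvd_antisymm ((hk _).2 dvd_rfl) ((hk _).1 dvd_rfl)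

/-- An element of order p. -/
theorem exists_order_char (p : ℕ) [hp : Fact p.Prime] [CharP F p] : ∃ x : PGL, orderOf x = p := by
  let g : G2 := Matrix.GeneralLinearGroup.mkOfDetNeZero !![(1 : F), 1; 0, 1] (by simp)
  refine ⟨QuotientGroup.mk g, orderOf_eq_prime (orderOf_dvd_iff_pow_eq_one.1 ?_) ?_⟩
  · rw [orderOf_pgl_dvd_iff]
    refine ⟨1, ?_⟩
    show (!![(1 : F), 1; 0, 1] : M2) ^ p = _
    rw [show (!![(1 : F), 1; 0, 1] : M2) = (1 : F) • (1 : M2) + (1 : F) • !![0, 1; 0, 0] by
        simp [Matrix.one_fin_two],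
      add_pow_char_smul _ _ _ (by ext i j; fin_cases i <;> fin_cases j <;> simp), one_pow, scalar_eq_smul]
  · intro h
    obtain ⟨c, hc⟩ := mem_center_iff_scalar.1 ((QuotientGroup.eq_one_iff g).1 h)
    change (!![(1 : F), 1; 0, 1] : M2) = _ at hc
    have := congrFun (congrFun hc 0) 1
    simp at this

/-- The set of element orders of PGL(2, q), q odd. -/
theorem range_orderOf (p : ℕ) [hp : Fact p.Prime] [CharP F p] (h2 : (2 : F) ≠ 0) :
    Set.range (orderOf : PGL → ℕ) =
      {n | n ∣ Fintype.card F - 1 ∨ n ∣ Fintype.card F + 1 ∨ n = p} := by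
  have hq := Fintype.one_lt_card (α := F)
  refine Set.Subset.antisymm (by rintro _ ⟨x, rfl⟩; exact order_cases p h2 x) ?_
  rintro n hn
  have hdiv : ∀ (m : ℕ) (x : PGL), orderOf x = m → 0 < m → n ∣ m → ∃ y : PGL, orderOf y = n := by
    rintro m x rfl hm ⟨k, hk⟩
    refine ⟨x ^ k, ?_⟩
    have hk0 : k ≠ 0 := fun e => by rw [e, mul_zero] at hk; omega
    rw [orderOf_pow' x hk0, hk, Nat.gcd_eq_right (dvd_mul_left _ _), Nat.mul_div_cancel _ (Nat.pos_of_ne_zero hk0)]
  rcases hn with h | h | h
  · obtain ⟨x, hx⟩ := exists_order_sub_one (F := F)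
    exact hdiv _ x hx (by omega) h
  · obtain ⟨x, hx⟩ := exists_order_add_one (F := F) p
    exact hdiv _ x hx (by omega) h
  · exact h ▸ exists_order_char p

end Cfsg.Agent.Fg24.IsoPGL
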